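import Mathlib
import Cfsg.Prelude.Def_KGroupFacts
import Cfsg.Prelude.Def_SporadicB
import Cfsg.Agent.Lib.Schur.Cover
import Cfsg.Agent.Lib.Schur.Perfect

/-!
# Central extensions of a group with a subgroup like `2.HS:2`

If `L ≤ Γ` maps onto `H`, the derived subgroup of `H` is a double cover of a group `S` with
multiplier of order 2, and `H = H' ⟨z⟩`, then the derived subgroup of `L` meets the kernel of
a central extension trivially.
-/

set_option autoImplicit false

namespace Cfsg.Agent.Lib.HNSchur64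

open Subgroup
open scoped commutatorElement

/-- a non-split double cover of a perfect group is perfect -/
theorem isPerfect_of_nonsplit {K S : Type*} [Group K] [Group S] (hS : Group.IsPerfect S)
    (h : Cfsg.IsNonsplitDoubleCover K S) : Group.IsPerfect K := by
  obtain ⟨hcard, ⟨e⟩, hns⟩ := h
  set π : K →* S := e.toMonoidHom.comp (QuotientGroup.mk' (center K)) with hπ
  have hs : Function.Surjective π := e.surjective.comp (QuotientGroup.mk'_surjective _)
  have hker : ∀ k, π k = 1 → k ∈ center K := fun k hk => by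
    rw [← QuotientGroup.eq_one_iff]
    exact e.injective (by simpa [hπ] using hk)
  have hmap : (commutator K).map π = ⊤ := by
    rw [commutator_def, Subgroup.map_commutator, ← MonoidHom.range_eq_map,
      MonoidHom.range_eq_top.mpr hs, ← commutator_def, hS.commutator_eq_top]
  have hdec : ∀ k, ∃ l ∈ commutator K, l⁻¹ * k ∈ center K := fun k => by
    obtain ⟨l, hl, hlk⟩ := hmap.ge (mem_top (π k))
    exact ⟨l, hl, hker _ (by rw [map_mul, map_inv, hlk, inv_mul_cancel])⟩
  refine ⟨?_⟩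
  have hZ : center K ≤ commutator K := by
    have : Fact (Nat.Prime (Nat.card (center K))) := ⟨by rw [hcard]; exact Nat.prime_two⟩
    rcases Subgroup.eq_bot_or_eq_top_of_prime_card ((commutator K).subgroupOf (center K))
      with h1 | h1
    · exfalso
      refine hns (commutator K) (Subgroup.isComplement'_of_disjoint_and_mul_eq_univ ?_ ?_)
      · exact (subgroupOf_eq_bot.mp h1).symm
      · refine Set.eq_univ_of_forall fun k => ?_
        obtain ⟨l, hl, hlk⟩ := hdec k
        exact Set.mem_mul.mpr ⟨_, hlk, l, hl, by rw [← mem_center_iff.mp hlk l]; group⟩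
    · exact subgroupOf_eq_top.mp h1
  refine (eq_top_iff' _).mpr fun k => ?_
  obtain ⟨l, hl, hlk⟩ := hdec k
  simpa using mul_mem hl (hZ hlk)

section
variable {Γ G : Type*} [Group Γ] [Group G]

/-- conjugation by a normalising element, any integral power -/
theorem conj_zpow_mem (E : Subgroup Γ) {W : Γ} (hW : ∀ e, e ∈ E ↔ W * e * W⁻¹ ∈ E) (i : ℤ)
    {e : Γ} (he : e ∈ E) : W ^ i * e * (W ^ i)⁻¹ ∈ E :=
  (mem_normalizer_iff.mp (zpow_mem (mem_normalizer_iff.mpr hW) i) e).mp he

theorem commutator_mem_of_decomp (E : Subgroup Γ) {W : Γ} (hW : ∀ e, e ∈ E ↔ W * e * W⁻¹ ∈ E)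
    {e₁ e₂ c₁ c₂ : Γ} (h₁ : e₁ ∈ E) (h₂ : e₂ ∈ E) (hc₁ : c₁ ∈ center Γ) (hc₂ : c₂ ∈ center Γ)
    (i j : ℤ) : ⁅e₁ * W ^ i * c₁, e₂ * W ^ j * c₂⁆ ∈ E := by
  have key : ∀ a b c d : Γ, c ∈ center Γ → d ∈ center Γ → ⁅a * c, b * d⁆ = ⁅a, b⁆ := by
    intro a b c d hc hd
    have e1 : ∀ u, c * u = u * c := fun u => (mem_center_iff.mp hc u).symm
    have e2 : ∀ u, d * u = u * d := fun u => (mem_center_iff.mp hd u).symm
    have i1 : ∀ u, c⁻¹ * u = u * c⁻¹ := fun u => (mem_center_iff.mp (inv_mem hc) u).symm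
    calc ⁅a * c, b * d⁆ = a * (c * b) * (d * c⁻¹) * a⁻¹ * d⁻¹ * b⁻¹ := by
          rw [commutatorElement_def]; group
      _ = a * b * (c * d * c⁻¹ * a⁻¹) * d⁻¹ * b⁻¹ := by rw [e1]; group
      _ = a * b * (a⁻¹ * d) * d⁻¹ * b⁻¹ := by
          rw [e1 d, mul_assoc d c, mul_inv_cancel, mul_one, e2 a⁻¹]
      _ = ⁅a, b⁆ := by rw [commutatorElement_def]; group
  rw [key _ _ _ _ hc₁ hc₂]
  have : ⁅e₁ * W ^ i, e₂ * W ^ j⁆ =
      e₁ * (W ^ i * e₂ * (W ^ i)⁻¹) * (W ^ j * e₁⁻¹ * (W ^ j)⁻¹) * e₂⁻¹ := by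
    rw [commutatorElement_def]
    group
  rw [this]
  exact mul_mem (mul_mem (mul_mem h₁ (conj_zpow_mem E hW i h₂))
    (conj_zpow_mem E hW j (inv_mem h₁))) (inv_mem h₂)

variable (τ : Γ →* G)

theorem map_bracket_eq {L : Subgroup Γ} {H : Subgroup G} (hL : L.map τ = H) :
    (⁅L, L⁆).map τ = ⁅H, H⁆ := by rw [Subgroup.map_commutator, hL]

/-- The derived subgroup of `L` meets the kernel trivially. -/
theorem ker_inf_bracket_eq_bot (hc : τ.ker ≤ center Γ) {L : Subgroup Γ} {H : Subgroup G}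
    (hL : L.map τ = H) {W : Γ} (hW : W ∈ L)
    (hdecomp : ∀ g ∈ H, ∃ i : ℤ, g * (τ W ^ i)⁻¹ ∈ ⁅H, H⁆)
    [Finite G] {S : Type*} [Group S]
    (hK : Group.IsPerfect (⁅H, H⁆ : Subgroup G))
    (hcov : Cfsg.IsNonsplitDoubleCover (⁅H, H⁆ : Subgroup G) S)
    (hM : Cfsg.HasCyclicSchurMultiplier S 2) :
    τ.ker ⊓ ⁅L, L⁆ = ⊥ := by
  set D := ⁅L, L⁆ with hD
  have hDK : D.map τ = ⁅H, H⁆ := map_bracket_eq τ hL
  have hDL : D ≤ L := Subgroup.commutator_le_self L
  -- `L` normalises `E`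
  set E := ⁅D, D⁆ with hE
  have hEK : E.map τ = ⁅H, H⁆ := by
    rw [hE, Subgroup.map_commutator, hDK]
    exact (Subgroup.isPerfect_iff.mp hK)
  have hnorm : ∀ l ∈ L, ∀ e, e ∈ E ↔ l * e * l⁻¹ ∈ E := by
    intro l hl
    have hmap : L.map (MulAut.conj l).toMonoidHom = L := by
      ext u
      simp only [mem_map, MulEquiv.coe_toMonoidHom, MulAut.conj_apply]
      exact ⟨fun ⟨v, hv, hvu⟩ => hvu ▸ mul_mem (mul_mem hl hv) (inv_mem hl),
        fun hu => ⟨l⁻¹ * u * l, mul_mem (mul_mem (inv_mem hl) hu) hl, by group⟩⟩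
    have hEmap : E.map (MulAut.conj l).toMonoidHom = E := by
      simp only [hE, hD, Subgroup.map_commutator, hmap]
    intro e
    conv_rhs => rw [← hEmap]
    rw [show l * e * l⁻¹ = (MulAut.conj l).toMonoidHom e from rfl,
      mem_map_iff_mem (MulEquiv.injective _)]
  -- `⁅L, L⁆ = E`
  have hDE : D ≤ E := by
    have hdec : ∀ l ∈ L, ∃ (e : Γ) (i : ℤ) (c : Γ), e ∈ E ∧ c ∈ center Γ ∧ l = e * W ^ i * c := by
      intro l hl
      obtain ⟨i, hi⟩ := hdecomp (τ l) (hL ▸ mem_map_of_mem τ hl)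
      rw [← hEK] at hi
      obtain ⟨e, he, hei⟩ := hi
      refine ⟨e, i, (e * W ^ i)⁻¹ * l, he, hc ?_, by group⟩
      rw [MonoidHom.mem_ker, map_mul, map_inv, map_mul, map_zpow, hei]
      group
    rw [hD, Subgroup.commutator_le]
    intro a ha b hb
    obtain ⟨e₁, i, c₁, he₁, hc₁, rfl⟩ := hdec a ha
    obtain ⟨e₂, j, c₂, he₂, hc₂, rfl⟩ := hdec b hb
    exact commutator_mem_of_decomp E (hnorm W hW) he₁ he₂ hc₁ hc₂ i j
  have hperf : Group.IsPerfect D :=
    Subgroup.isPerfect_iff.mpr (le_antisymm (Subgroup.commutator_le_self D) hDE)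
  -- `D → K → S` is a central extension, so has kernel of order at most two
  obtain ⟨hcard, ⟨eS⟩, -⟩ := hcov
  set π : ↥(⁅H, H⁆ : Subgroup G) →* S := eS.toMonoidHom.comp (QuotientGroup.mk' (center _)) with hπ
  have hπs : Function.Surjective π := eS.surjective.comp (QuotientGroup.mk'_surjective _)
  set f : D →* ↥(⁅H, H⁆ : Subgroup G) :=
    (MulEquiv.subgroupCongr hDK).toMonoidHom.comp (τ.subgroupMap D) with hf
  have hfs : Function.Surjective f :=
    (MulEquiv.subgroupCongr hDK).surjective.comp (τ.subgroupMap_surjective D)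
  have hfval : ∀ d : D, (f d : G) = τ d := fun d => rfl
  set ξ : D →* S := π.comp f with hξ
  have hξs : Function.Surjective ξ := hπs.comp hfs
  have hξc : ξ.ker ≤ center D := by
    intro d hd
    have hd' : f d ∈ center _ := by
      rw [← QuotientGroup.eq_one_iff]
      exact eS.injective (by simpa [hξ, hπ] using hd)
    refine Cfsg.Agent.Lib.Schur.mem_center_of_perfect hperf fun u => ?_
    have h1 : ((⁅d, u⁆ : D) : Γ) ∈ center Γ := hc (by
      rw [MonoidHom.mem_ker, ← hfval, map_commutatorElement,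
        commutatorElement_eq_one_iff_mul_comm.mpr (mem_center_iff.mp hd' (f u)).symm]
      rfl)
    rw [mem_center_iff]
    exact fun v => Subtype.ext (mem_center_iff.mp h1 v)
  obtain ⟨g, hg⟩ := Cfsg.Agent.Lib.Schur.exists_surjection_of_hasSchurMultiplier hM ξ hξs hξc
  have hk2 : Nat.card ξ.ker ≤ 2 := by
    have h1 : ξ.ker ⊓ commutator D = ξ.ker := by rw [hperf.commutator_eq_top, inf_top_eq]
    have h2 := Nat.card_le_card_of_surjective g hg
    rw [h1] at h2
    simpa using h2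
  have : Finite (ξ.ker ⊓ commutator D : Subgroup D) := Finite.of_surjective g hg
  have hkfin : Finite ξ.ker := Finite.of_injective
    (fun d => (⟨d.1, d.2, hperf.commutator_eq_top ▸ mem_top _⟩ : (ξ.ker ⊓ commutator D : Subgroup D)))
    fun a b h => Subtype.ext (Subtype.mk.inj h)
  have : Finite S := Finite.of_surjective π hπs
  have : Finite (D ⧸ ξ.ker) :=
    Finite.of_equiv _ (QuotientGroup.quotientKerEquivOfSurjective ξ hξs).symm.toEquiv
  have : Finite D := Finite.of_equiv _ (Subgroup.groupEquivQuotientProdSubgroup (s := ξ.ker)).symm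
  have cD : Nat.card D = Nat.card S * Nat.card ξ.ker := by
    rw [Subgroup.card_eq_card_quotient_mul_card_subgroup ξ.ker,
      Nat.card_congr (QuotientGroup.quotientKerEquivOfSurjective ξ hξs).toEquiv]
  have cK : Nat.card (⁅H, H⁆ : Subgroup G) = Nat.card S * 2 := by
    rw [Subgroup.card_eq_card_quotient_mul_card_subgroup (center _), Nat.card_congr eS.toEquiv,
      hcard]
  have hbij : Function.Bijective f := hfs.bijective_of_nat_card_le (by
    rw [cD, cK]; exact Nat.mul_le_mul_left _ hk2)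
  rw [eq_bot_iff]
  rintro a ⟨ha, haD⟩
  have : f ⟨a, haD⟩ = f 1 := Subtype.ext (by rw [map_one, hfval]; exact ha)
  exact mem_bot.mpr (congrArg Subtype.val (hbij.1 this))

end

end Cfsg.Agent.Lib.HNSchur64
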