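import Mathlib
import Cfsg.Agent.Lib.HN3.HRel

/-!
# Lifting the relators of the Harada–Norton presentation to a central extension
-/

set_option autoImplicit false

namespace Cfsg.Agent.Lib.HNSchur64

open Subgroup
open scoped commutatorElement
open Cfsg.Agent.Lib.HN3

/-- in a commutative group the relations kill `x` and `y` -/
theorem eq_one_of_comm {A : Type*} [CommGroup A] {a b c : A} (h : HRel a b c) :
    a = 1 ∧ b = 1 := by
  have a4 : a ^ 4 = 1 := by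
    have := h.r2
    rw [mul_comm (a ^ 2 * b) (a ^ 2), mul_assoc, mul_assoc, mul_inv_cancel, mul_one, ← pow_add]
      at this
    exact this
  have a2 : a ^ 2 = 1 := by
    have := h.r9
    rw [show ∀ u : A, c⁻¹ * u⁻¹ * c * u = 1 from fun u => by
      rw [mul_comm c⁻¹ u⁻¹, mul_assoc u⁻¹, inv_mul_cancel, mul_one, inv_mul_cancel],
      one_mul, inv_eq_one] at this
    exact this
  have b3 : b ^ 3 = 1 := by
    have := h.r4
    rw [show a⁻¹ * b ^ 2 * a * b ^ 3 = b ^ 5 by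
      rw [mul_comm a⁻¹, inv_mul_cancel_right, ← pow_add], ← pow_mul,
      show 5 * 3 = 6 + 6 + 3 by norm_num, pow_add, pow_add, h.r1, one_mul, one_mul] at this
    exact this
  have b1 : b = 1 := by
    have := h.r5
    rw [mul_pow, show 8 = 4 + 4 by norm_num, pow_add, a4, one_mul, one_mul,
      show 4 + 4 = 3 + 3 + 2 by norm_num, pow_add, pow_add, b3, one_mul, one_mul] at this
    calc b = b ^ 3 * (b ^ 2)⁻¹ := by group
      _ = 1 := by rw [b3, this, inv_one, mul_one]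
  refine ⟨?_, b1⟩
  have := h.r10
  rw [show ∀ u : A, u⁻¹ * c * u = c from fun u => by
      rw [mul_comm u⁻¹ c, inv_mul_cancel_right], mul_pow, ← mul_assoc, ← pow_succ',
    show 3 + 1 = 2 * 2 by norm_num, pow_mul, h.r7, one_pow, one_mul,
    show 3 = 2 + 1 by norm_num, pow_add, a2, one_mul, pow_one] at this
  exact this

section
variable {G : Type*} [Group G] {x y z : G}

/-- the two generators `x, y` lie in the derived subgroup -/
theorem mem_bracket (h : HRel x y z) {H : Subgroup G} (hH : closure {x, y, z} = H) :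
    x ∈ ⁅H, H⁆ ∧ y ∈ ⁅H, H⁆ ∧ ∀ g ∈ H, ∃ i : ℤ, g * (z ^ i)⁻¹ ∈ ⁅H, H⁆ := by
  have hx : x ∈ H := hH ▸ subset_closure (by simp)
  have hy : y ∈ H := hH ▸ subset_closure (by simp)
  have hz : z ∈ H := hH ▸ subset_closure (by simp)
  have hsub : HRel (⟨x, hx⟩ : H) ⟨y, hy⟩ ⟨z, hz⟩ :=
    ⟨Subtype.ext h.r1, Subtype.ext h.r2, Subtype.ext h.r3, Subtype.ext h.r4, Subtype.ext h.r5,
      Subtype.ext h.r6, Subtype.ext h.r7, Subtype.ext h.r8, Subtype.ext h.r9, Subtype.ext h.r10⟩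
  obtain ⟨ax, ay⟩ := eq_one_of_comm (hsub.map Abelianization.of)
  have key : ∀ {g : G} (hg : g ∈ H), Abelianization.of (⟨g, hg⟩ : H) = 1 → g ∈ ⁅H, H⁆ := by
    intro g hg hg1
    rw [← map_subtype_commutator]
    exact ⟨⟨g, hg⟩, (QuotientGroup.eq_one_iff _).mp hg1, rfl⟩
  refine ⟨key hx ax, key hy ay, ?_⟩
  have hall : ∀ g ∈ H, ∃ (hg : g ∈ H) (i : ℤ),
      Abelianization.of (⟨g, hg⟩ : H) = Abelianization.of (⟨z, hz⟩ : H) ^ i := by
    intro g hg
    rw [← hH] at hg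
    induction hg using Subgroup.closure_induction with
    | mem u hu =>
      rcases hu with rfl | rfl | rfl
      · exact ⟨hx, 0, by rw [ax, zpow_zero]⟩
      · exact ⟨hy, 0, by rw [ay, zpow_zero]⟩
      · exact ⟨hz, 1, by rw [zpow_one]⟩
    | one => exact ⟨one_mem _, 0, by rw [zpow_zero]; exact map_one _⟩
    | mul u v _ _ hu hv =>
      obtain ⟨hu, i, hi⟩ := hu
      obtain ⟨hv, j, hj⟩ := hv
      exact ⟨mul_mem hu hv, i + j, by rw [zpow_add, ← hi, ← hj]; rfl⟩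
    | inv u _ hu =>
      obtain ⟨hu, i, hi⟩ := hu
      exact ⟨inv_mem hu, -i, by rw [zpow_neg, ← hi]; rfl⟩
  intro g hg
  obtain ⟨_, i, hi⟩ := hall g hg
  refine ⟨i, key (mul_mem hg (inv_mem (zpow_mem hz i))) ?_⟩
  have : (⟨g * (z ^ i)⁻¹, mul_mem hg (inv_mem (zpow_mem hz i))⟩ : H) =
      ⟨g, hg⟩ * ((⟨z, hz⟩ : H) ^ i)⁻¹ := Subtype.ext (by simp)
  rw [this, map_mul, map_inv, map_zpow, hi, mul_inv_cancel]

/-- `x` has order dividing four -/
theorem x_pow_four (h : HRel x y z) : x ^ 4 = 1 := by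
  set q := x ^ 2 with hq
  let C : Subgroup G :=
    { carrier := {g | g * q * g⁻¹ = q ∨ g * q * g⁻¹ = q⁻¹}
      one_mem' := Or.inl (by group)
      mul_mem' := by
        intro a b ha hb
        have e : a * b * q * (a * b)⁻¹ = a * (b * q * b⁻¹) * a⁻¹ := by group
        rcases hb with hb | hb <;> rcases ha with ha | ha
        · exact Or.inl (by rw [e, hb, ha])
        · exact Or.inr (by rw [e, hb, ha])
        · exact Or.inr (by rw [e, hb, show a * q⁻¹ * a⁻¹ = (a * q * a⁻¹)⁻¹ by group, ha])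
        · exact Or.inl (by rw [e, hb, show a * q⁻¹ * a⁻¹ = (a * q * a⁻¹)⁻¹ by group, ha, inv_inv])
      inv_mem' := by
        intro a ha
        rcases ha with ha | ha
        · exact Or.inl (calc a⁻¹ * q * a⁻¹⁻¹ = a⁻¹ * (a * q * a⁻¹) * a⁻¹⁻¹ := by rw [ha]
            _ = q := by group)
        · exact Or.inr (calc a⁻¹ * q * a⁻¹⁻¹ = (a⁻¹ * q⁻¹ * a⁻¹⁻¹)⁻¹ := by group
            _ = (a⁻¹ * (a * q * a⁻¹) * a⁻¹⁻¹)⁻¹ := by rw [ha]
            _ = q⁻¹ := by group) }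
  have hmem : ∀ g, g ∈ C ↔ (g * q * g⁻¹ = q ∨ g * q * g⁻¹ = q⁻¹) := fun g => Iff.rfl
  have hy : y * q * y⁻¹ = q⁻¹ := eq_inv_of_mul_eq_one_right (by
    rw [← h.r2, hq]; group)
  have hzz : z⁻¹ = z := inv_eq_of_mul_eq_one_right (by rw [← pow_two]; exact h.r7)
  have hzx : z * x * z⁻¹ = x⁻¹ := by
    have := h.r8
    rw [pow_two, ← mul_assoc] at this
    rw [hzz]
    exact eq_inv_of_mul_eq_one_left this
  have hHC : closure {x, y, z} ≤ C := by
    rw [closure_le]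
    rintro g (rfl | rfl | rfl)
    · exact Or.inl (by rw [hq]; group)
    · exact Or.inr hy
    · exact Or.inr (by rw [hq, ← conj_pow, hzx, inv_pow])
  have hcent : ⁅C, C⁆ ≤ centralizer {q} := by
    rw [commutator_le]
    intro a ha b hb
    have key : ∀ g ∈ C, g * q * g⁻¹ = q ∨ g * q * g⁻¹ = q⁻¹ := fun g hg => hg
    rw [mem_centralizer_singleton_iff, ← mul_inv_eq_iff_eq_mul]
    have e : ⁅a, b⁆ * (b * a * q * (b * a)⁻¹) * ⁅a, b⁆⁻¹ = a * b * q * (a * b)⁻¹ := by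
      rw [commutatorElement_def]; group
    have hab : a * b * q * (a * b)⁻¹ = b * a * q * (b * a)⁻¹ := by
      have e1 : a * b * q * (a * b)⁻¹ = a * (b * q * b⁻¹) * a⁻¹ := by group
      have e2 : b * a * q * (b * a)⁻¹ = b * (a * q * a⁻¹) * b⁻¹ := by group
      have e3 : ∀ g : G, g * q⁻¹ * g⁻¹ = (g * q * g⁻¹)⁻¹ := fun g => by group
      rcases key a ha with ha1 | ha1 <;> rcases key b hb with hb1 | hb1 <;>
        simp only [e1, e2, ha1, hb1, e3, inv_inv]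
    rw [hab] at e
    rcases key _ (mul_mem ha hb) with h1 | h1
    · rw [hab] at h1
      rwa [h1] at e
    · rw [hab] at h1
      rw [h1] at e
      calc ⁅a, b⁆ * q * ⁅a, b⁆⁻¹ = (⁅a, b⁆ * q⁻¹ * ⁅a, b⁆⁻¹)⁻¹ := by group
        _ = q := by rw [e, inv_inv]
  have hyq : y * q * y⁻¹ = q := by
    have h1 : y ∈ ⁅C, C⁆ := Subgroup.commutator_mono hHC hHC (mem_bracket h rfl).2.1
    rw [mul_inv_eq_iff_eq_mul]
    exact mem_centralizer_singleton_iff.mp (hcent h1)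
  rw [hy, inv_eq_iff_mul_eq_one, hq, ← pow_add] at hyq
  exact hyq

end

section
variable {Γ G : Type*} [Group Γ] [Group G]

/-- All fourteen relators lift exactly to a central extension in which a subgroup `D` normalised
by a lift of `z` meets the kernel trivially and maps onto something containing `x` and `y`. -/
theorem exists_relator_lifts (τ : Γ →* G) (hτ : Function.Surjective τ) (hc : τ.ker ≤ center Γ)
    {x y z t : G} (h : HRel x y z) (ht5 : t ^ 5 = 1) (htx : x⁻¹ * t * x * t ^ 2 = 1)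
    (hty : t⁻¹ * y⁻¹ * t * y = 1) (hzt : (z * t) ^ 3 = 1)
    {D : Subgroup Γ} (hD : ∀ d ∈ D, τ d = 1 → d = 1) {X Y W₀ : Γ} (hX : X ∈ D) (hY : Y ∈ D)
    (hτX : τ X = x) (hτY : τ Y = y) (hτW : τ W₀ = z)
    (hnorm : ∀ d, d ∈ D ↔ W₀ * d * W₀⁻¹ ∈ D) :
    ∃ W T : Γ, τ W = z ∧ τ T = t ∧ HRel X Y W ∧ T ^ 5 = 1 ∧ X⁻¹ * T * X * T ^ 2 = 1 ∧
      T⁻¹ * Y⁻¹ * T * Y = 1 ∧ (W * T) ^ 3 = 1 := by
  have cen : ∀ {u : Γ}, τ u = 1 → ∀ g, g * u = u * g := fun {u} hu g => mem_center_iff.mp (hc hu) g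
  have hzz : z⁻¹ = z := inv_eq_of_mul_eq_one_right (by rw [← pow_two]; exact h.r7)
  have hzx : z * x * z⁻¹ = x⁻¹ := by
    have := h.r8
    rw [pow_two, ← mul_assoc] at this
    rw [hzz]
    exact eq_inv_of_mul_eq_one_left this
  have hX4 : X ^ 4 = 1 := hD _ (pow_mem hX 4) (by rw [map_pow, hτX]; exact x_pow_four h)
  have hY6 : Y ^ 6 = 1 := hD _ (pow_mem hY 6) (by rw [map_pow, hτY]; exact h.r1)
  have hWX0 : W₀ * X * W₀⁻¹ = X⁻¹ := mul_eq_one_iff_eq_inv.mp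
    (hD _ (mul_mem ((hnorm X).mp hX) hX)
      (by rw [map_mul, map_mul, map_mul, map_inv, hτX, hτW, hzx, inv_mul_cancel]))
  -- the element `T`
  obtain ⟨T₀, hT₀⟩ := hτ t
  have hc1 : T₀⁻¹ * Y⁻¹ * T₀ * Y = 1 := by
    set c := T₀⁻¹ * Y⁻¹ * T₀ * Y with hcdef
    have hcK : τ c = 1 := by simp [hcdef, hT₀, hτY, hty]
    have hcc := cen hcK
    have e1 : T₀⁻¹ * Y⁻¹ * T₀ = c * Y⁻¹ := by rw [hcdef]; group
    have c6 : c ^ 6 = 1 := by
      have := conj_pow (i := 6) (a := T₀⁻¹) (b := Y⁻¹)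
      rw [inv_inv, e1, (show Commute c Y⁻¹ from (hcc _).symm).mul_pow, inv_pow, hY6, inv_one,
        mul_one, mul_one, inv_mul_cancel] at this
      exact this
    have e2 : Y⁻¹ * T₀ * Y = T₀ * c := by rw [hcdef]; group
    have hT5 : τ (T₀ ^ 5) = 1 := by rw [map_pow, hT₀, ht5]
    have c5 : c ^ 5 = 1 := by
      have := conj_pow (i := 5) (a := Y⁻¹) (b := T₀)
      rw [inv_inv, e2, (show Commute T₀ c from hcc T₀).mul_pow, cen hT5 Y⁻¹, mul_assoc,
        inv_mul_cancel, mul_one, mul_eq_left] at this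
      exact this
    calc c = c ^ 6 * (c ^ 5)⁻¹ := by group
      _ = 1 := by rw [c6, c5, inv_one, mul_one]
  set d := X⁻¹ * T₀ * X * T₀ ^ 2 with hd
  set e := T₀ ^ 5 with he
  have hdK : τ d = 1 := by simp [hd, hT₀, hτX, htx]
  have heK : τ e = 1 := by rw [he, map_pow, hT₀, ht5]
  have hde : e ^ 3 = d ^ 5 := by
    have e1 : X⁻¹ * T₀ * X = d * (T₀ ^ 2)⁻¹ := by rw [hd]; group
    have := conj_pow (i := 5) (a := X⁻¹) (b := T₀)
    rw [inv_inv, e1, (show Commute d (T₀ ^ 2)⁻¹ from (cen hdK _).symm).mul_pow, ← he,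
      cen heK X⁻¹, mul_assoc, inv_mul_cancel, mul_one, inv_pow, ← pow_mul, mul_comm 2 5,
      pow_mul, ← he, mul_inv_eq_iff_eq_mul] at this
    rw [this, ← pow_succ']
  set u := (d ^ 2)⁻¹ * e with hu
  have hcomm : Commute (d ^ 2)⁻¹ e := cen heK _
  have u3 : u ^ 3 = d⁻¹ := by
    rw [hu, hcomm.mul_pow, hde]
    group
  have u5 : u ^ 5 = e⁻¹ := by
    rw [hu, hcomm.mul_pow, inv_pow, ← pow_mul, show 2 * 5 = 5 + 5 by norm_num, pow_add, ← hde]
    group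
  have huK : τ u = 1 := by simp [hu, hdK, heK]
  have hTu : Commute T₀ u := cen huK T₀
  set T := T₀ * u with hT
  have hτT : τ T = t := by rw [hT, map_mul, huK, hT₀, mul_one]
  have hT5 : T ^ 5 = 1 := by rw [hT, hTu.mul_pow, u5, ← he, mul_inv_cancel]
  have hTX : X⁻¹ * T * X * T ^ 2 = 1 := by
    calc X⁻¹ * T * X * T ^ 2 = X⁻¹ * T₀ * (u * X) * (T₀ ^ 2 * u ^ 2) := by
          rw [hT, hTu.mul_pow]; group
      _ = X⁻¹ * T₀ * X * (u * T₀ ^ 2) * u ^ 2 := by rw [← cen huK X]; group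
      _ = d * u ^ 3 := by rw [← cen huK (T₀ ^ 2), hd]; group
      _ = 1 := by rw [u3, mul_inv_cancel]
  have hTY : T⁻¹ * Y⁻¹ * T * Y = 1 := by
    calc T⁻¹ * Y⁻¹ * T * Y = u⁻¹ * (T₀⁻¹ * Y⁻¹ * T₀) * (u * Y) := by rw [hT]; group
      _ = u⁻¹ * (T₀⁻¹ * Y⁻¹ * T₀ * Y) * u := by rw [← cen huK Y]; group
      _ = 1 := by rw [hc1]; group
  -- the element `W`
  set l := W₀ * W₀ with hl
  have hlK : τ l = 1 := by rw [hl, map_mul, hτW, ← pow_two, h.r7]
  set f := (W₀ * T) ^ 3 with hf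
  have hfK : τ f = 1 := by rw [hf, map_pow, map_mul, hτW, hτT, hzt]
  have hTinv : (X * X)⁻¹ * T * (X * X) = T⁻¹ := by
    have e1 : X⁻¹ * T * X = (T ^ 2)⁻¹ := eq_inv_of_mul_eq_one_left hTX
    calc (X * X)⁻¹ * T * (X * X) = X⁻¹ * (X⁻¹ * T * X) * X := by group
      _ = X⁻¹ * (T ^ 2)⁻¹ * X := by rw [e1]
      _ = (X⁻¹ * T * X)⁻¹ * (X⁻¹ * T * X)⁻¹ := by rw [pow_two]; group
      _ = T ^ 5 * T⁻¹ := by rw [e1]; group
      _ = T⁻¹ := by rw [hT5, one_mul]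
  have hWX2 : (X * X)⁻¹ * W₀ * (X * X) = W₀ := by
    have e1 : X⁻¹ * X⁻¹ = X * X := by
      calc X⁻¹ * X⁻¹ = X⁻¹ * X⁻¹ * X ^ 4 := by rw [hX4, mul_one]
        _ = X * X := by simp [pow_succ, mul_assoc]
    have e2 : W₀ * (X * X) * W₀⁻¹ = X * X := by
      rw [← e1, show W₀ * (X⁻¹ * X⁻¹) * W₀⁻¹ = (W₀ * X * W₀⁻¹)⁻¹ * (W₀ * X * W₀⁻¹)⁻¹ by group,
        hWX0, inv_inv, e1]
    rw [mul_assoc, mul_inv_eq_iff_eq_mul.mp e2]
    group
  have hf2 : f = (W₀ * T⁻¹) ^ 3 := by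
    have := conj_pow (i := 3) (a := (X * X)⁻¹) (b := W₀ * T)
    rw [inv_inv, show (X * X)⁻¹ * (W₀ * T) * (X * X) =
      ((X * X)⁻¹ * W₀ * (X * X)) * ((X * X)⁻¹ * T * (X * X)) by group, hWX2, hTinv, ← hf,
      cen hfK (X * X)⁻¹, mul_assoc, inv_mul_cancel, mul_one] at this
    exact this.symm
  have hfl : f * f = l ^ 3 := by
    have e1 : f⁻¹ = (T * W₀ * l⁻¹) ^ 3 := by
      rw [hf2, ← inv_pow, mul_inv_rev, inv_inv, hl]
      group
    have e2 : (T * W₀) ^ 3 = f := by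
      calc (T * W₀) ^ 3 = W₀⁻¹ * f * W₀ := by
            rw [hf]; simp only [pow_succ, pow_zero, one_mul]; group
        _ = f := by rw [cen hfK]; group
    rw [(show Commute (T * W₀) l⁻¹ from cen (by rw [map_inv, hlK, inv_one]) _).mul_pow, e2,
      inv_pow] at e1
    calc f * f = f * (f * (l ^ 3)⁻¹) * l ^ 3 := by group
      _ = l ^ 3 := by rw [← e1]; group
  set v := l * f⁻¹ with hv
  have hlf : Commute l f⁻¹ := cen (by rw [map_inv, hfK, inv_one]) _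
  have hvK : τ v = 1 := by simp [hv, hlK, hfK]
  have v2 : v ^ 2 = l⁻¹ := by
    rw [hv, hlf.mul_pow, inv_pow, pow_two f, hfl]
    group
  have v3 : v ^ 3 = f⁻¹ := by
    rw [hv, hlf.mul_pow, inv_pow, ← hfl]
    group
  set W := W₀ * v with hW
  have hτW' : τ W = z := by rw [hW, map_mul, hvK, hτW, mul_one]
  have hWconj : ∀ g, W * g * W⁻¹ = W₀ * g * W₀⁻¹ := fun g => by
    calc W * g * W⁻¹ = W₀ * (v * g) * v⁻¹ * W₀⁻¹ := by rw [hW]; group
      _ = W₀ * g * W₀⁻¹ := by rw [← cen hvK g]; group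
  have hnorm' : ∀ g, g ∈ D ↔ W * g * W⁻¹ ∈ D := fun g => by rw [hWconj]; exact hnorm g
  have hW2 : W * W = 1 := by
    calc W * W = W₀ * W₀ * v ^ 2 := by
          rw [hW, show W₀ * v * (W₀ * v) = W₀ * (v * W₀) * v by group, ← cen hvK W₀, pow_two]; group
      _ = 1 := by rw [← hl, v2, mul_inv_cancel]
  have hWi : W⁻¹ = W := inv_eq_of_mul_eq_one_right hW2
  have hWX : W * X * W⁻¹ = X⁻¹ := by rw [hWconj]; exact hWX0
  have hinv : ∀ g ∈ D, W⁻¹ * g * W ∈ D := fun g hg => (hnorm' _).mpr (by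
    rwa [show W * (W⁻¹ * g * W) * W⁻¹ = g by group])
  refine ⟨W, T, hτW', hτT, ⟨hY6, ?_, ?_, ?_, ?_, ?_, ?_, ?_, ?_, ?_⟩, hT5, hTX, hTY, ?_⟩
  · refine hD _ ?_ (by simpa [hτX, hτY] using h.r2)
    apply_rules [mul_mem, inv_mem, pow_mem]
  · refine hD _ ?_ (by simpa [hτX, hτY] using h.r3)
    apply_rules [mul_mem, inv_mem, pow_mem]
  · refine hD _ ?_ (by simpa [hτX, hτY] using h.r4)
    apply_rules [mul_mem, inv_mem, pow_mem]
  · refine hD _ ?_ (by simpa [hτX, hτY] using h.r5)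
    apply_rules [mul_mem, inv_mem, pow_mem]
  · refine hD _ ?_ (by simpa [hτX, hτY] using h.r6)
    apply_rules [mul_mem, inv_mem, pow_mem]
  · rw [pow_two, hW2]
  · calc (W * X) ^ 2 = W * X * W⁻¹ * (W * W) * X := by rw [pow_two]; group
      _ = 1 := by rw [hWX, hW2, mul_one, inv_mul_cancel]
  · have hA : Y * X * Y * X * Y ^ 2 * X * Y⁻¹ ∈ D := by
      apply_rules [mul_mem, inv_mem, pow_mem]
    exact hD _ (mul_mem (mul_mem (hinv _ (inv_mem hA)) hA) (inv_mem (pow_mem hX 2)))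
      (by simpa [hτX, hτY, hτW'] using h.r9)
  · set A := Y ^ 3 * X * Y * X * Y with hAdef
    have hA : A ∈ D := by rw [hAdef]; apply_rules [mul_mem, inv_mem, pow_mem]
    set g := W⁻¹ * A⁻¹ * W * A * X with hg
    have hgD : g ∈ D := by
      rw [hg]
      exact mul_mem (mul_mem (hinv _ (inv_mem hA)) hA) hX
    have e1 : W * (A⁻¹ * W * A * X) ^ 3 = W * W * g * (W * g * W⁻¹) * (W * W) * g := by
      rw [hg]; simp only [pow_succ, pow_zero, one_mul]; group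
    rw [hW2, one_mul, mul_one] at e1
    rw [e1]
    refine hD _ (mul_mem (mul_mem hgD ((hnorm' g).mp hgD)) hgD) ?_
    rw [← e1]
    simpa [hAdef, hτX, hτY, hτW'] using h.r10
  · calc (W * T) ^ 3 = (W₀ * T * v) ^ 3 := by
          rw [hW, mul_assoc W₀ v T, ← cen hvK T, ← mul_assoc]
      _ = f * v ^ 3 := by rw [(show Commute (W₀ * T) v from cen hvK _).mul_pow, hf]
      _ = 1 := by rw [v3, mul_inv_cancel]

end

end Cfsg.Agent.Lib.HNSchur64
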