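import Mathlib
import Cfsg.Prelude.Def_Spor_HN
import Cfsg.Prelude.Def_KGroupFacts
import Cfsg.Prelude.Def_SporadicB
import Cfsg.Agent.S2046
import Cfsg.Agent.Lib.Leech.SporConway
import Cfsg.Agent.Lib.HNSchur64.Cover
import Cfsg.Agent.Lib.HNSchur64.Lift

/-!
# The multiplier of the Harada–Norton group is trivial

Given that the presented group is finite and that the subgroup on `x, y, z` has a subgroup of
index two which is a non-split double cover of the Higman–Sims group.
-/

set_option autoImplicit false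

namespace Cfsg.Agent.Lib.HNSchur64

open Subgroup
open scoped commutatorElement
open Cfsg.Agent.Lib.HN3

theorem isPerfect_of_simple {S : Type*} [Group S] [Finite S] [IsSimpleGroup S]
    (h : ¬ (Nat.card S).Prime) : Group.IsPerfect S := by
  refine ⟨((commutator_normal ⊤ ⊤).eq_bot_or_eq_top).resolve_left fun hb => h ?_⟩
  let i : CommGroup S := { (inferInstance : Group S) with
    mul_comm := fun a b => commutatorElement_eq_one_iff_mul_comm.mp (mem_bot.mp
      (hb ▸ commutator_mem_commutator (mem_top a) (mem_top b))) }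
  exact IsSimpleGroup.prime_card

/-- A perfect normal subgroup of index two is the derived subgroup. -/
theorem commutator_eq_of_index_two {H : Type*} [Group H] {K : Subgroup H} [K.Normal]
    (hi : K.index = 2) (hK : Group.IsPerfect K) : commutator H = K := by
  refine le_antisymm ?_ ?_
  · rw [commutator_def, Subgroup.commutator_le]
    intro a _ b _
    rw [← QuotientGroup.eq_one_iff]
    have : IsCyclic (H ⧸ K) := @isCyclic_of_prime_card _ _ 2 ⟨Nat.prime_two⟩ hi
    change QuotientGroup.mk' K ⁅a, b⁆ = 1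
    rw [map_commutatorElement, commutatorElement_eq_one_iff_mul_comm]
    exact IsCyclic.commGroup.mul_comm _ _
  · rw [← Subgroup.isPerfect_iff.mp hK, commutator_def]
    exact Subgroup.commutator_mono le_top le_top

theorem isNonsplitDoubleCover_congr {K K' S : Type*} [Group K] [Group K'] [Group S] (e : K ≃* K')
    (h : Cfsg.IsNonsplitDoubleCover K S) : Cfsg.IsNonsplitDoubleCover K' S := by
  obtain ⟨hcard, ⟨q⟩, hns⟩ := h
  have hmap : (center K).map e.toMonoidHom = center K' := by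
    ext u
    rw [mem_map, mem_center_iff]
    constructor
    · rintro ⟨v, hv, rfl⟩ g
      obtain ⟨g', rfl⟩ := e.surjective g
      show e g' * e v = e v * e g'
      rw [← map_mul, ← map_mul, mem_center_iff.mp hv g']
    · intro hu
      obtain ⟨v, rfl⟩ := e.surjective u
      exact ⟨v, mem_center_iff.mpr fun g => e.injective (by rw [map_mul, map_mul]; exact hu (e g)),
        rfl⟩
  refine ⟨?_, ⟨(QuotientGroup.congr _ _ e hmap).symm.trans q⟩, fun L hL => ?_⟩
  · rw [← hmap, Subgroup.card_map_of_injective e.injective, hcard]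
  · refine hns (L.comap e.toMonoidHom) (isComplement'_of_disjoint_and_mul_eq_univ ?_ ?_)
    · rw [Subgroup.disjoint_def]
      intro u hu hu'
      refine e.injective ?_
      rw [map_one]
      exact Subgroup.disjoint_def.mp hL.disjoint (hmap ▸ mem_map_of_mem e.toMonoidHom hu) hu'
    · refine Set.eq_univ_of_forall fun g => ?_
      obtain ⟨⟨⟨c, hc⟩, l, hl⟩, hcl⟩ := hL.2 (e g)
      have hc' : e.symm c ∈ center K := by
        rw [← hmap] at hc
        obtain ⟨v, hv, rfl⟩ := hc
        simpa using hv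
      refine Set.mem_mul.mpr ⟨e.symm c, hc', e.symm l, ?_, e.injective (by simpa using hcl)⟩
      show e (e.symm l) ∈ L
      rwa [MulEquiv.apply_symm_apply]

private abbrev hnRels : Set (FreeGroup Spor.HN.Gen) :=
  Spor.coxRelators Spor.HN.edges ∪ {r | r ∈ Spor.HN.extra}

private abbrev gen (g : Spor.HN.Gen) : Spor.HN := PresentedGroup.of g

theorem relators_HN :
    HRel (gen .x) (gen .y) (gen .z) ∧ gen .t ^ 5 = 1 ∧
      (gen .x)⁻¹ * gen .t * gen .x * gen .t ^ 2 = 1 ∧
      (gen .t)⁻¹ * (gen .y)⁻¹ * gen .t * gen .y = 1 ∧ (gen .z * gen .t) ^ 3 = 1 := by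
  have h : ∀ r ∈ Spor.HN.extra, PresentedGroup.mk hnRels r = 1 := fun r hr =>
    PresentedGroup.one_of_mem (Or.inr hr)
  simp only [Spor.HN.extra, List.forall_mem_cons] at h
  obtain ⟨h1, h2, h3, h4, h5, h6, h7, h8, h9, h10, h11, h12, h13, h14, -⟩ := h
  simp only [map_mul, map_inv, map_pow] at *
  exact ⟨⟨h1, h2, h3, h4, h5, h6, h7, h8, h9, h10⟩, h11, h12, h13, h14⟩

/-- The multiplier of HN is trivial. -/
theorem hasCyclicSchurMultiplier_HN [Finite Spor.HN]
    (hH : ∃ K : Subgroup (((Subgroup.closure ({Spor.HN.x, Spor.HN.y, Spor.HN.z} : Set (FreeGroup Spor.HN.Gen))).map (PresentedGroup.mk hnRels))),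
      K.Normal ∧ K.index = 2 ∧ Cfsg.IsNonsplitDoubleCover K Spor.HS) :
    Cfsg.HasCyclicSchurMultiplier Spor.HN 1 := by
  set x := gen .x
  set y := gen .y
  set z := gen .z
  obtain ⟨hrel, ht5, htx, hty, hzt⟩ := relators_HN
  set H := (Subgroup.closure ({Spor.HN.x, Spor.HN.y, Spor.HN.z} :
    Set (FreeGroup Spor.HN.Gen))).map (PresentedGroup.mk hnRels) with hHdef
  obtain ⟨K, hKn, hKi, hKc⟩ := hH
  have hH : closure {x, y, z} = H := by
    rw [hHdef, MonoidHom.map_closure, Set.image_insert_eq, Set.image_insert_eq, Set.image_singleton]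
    rfl
  have hsimple : IsSimpleGroup Spor.HS := Lib.Leech.isSimpleGroup_HS
  have hfinS : Finite Spor.HS := Nat.finite_of_card_ne_zero (by
    rw [Lib.Leech.card_HS]; norm_num)
  have hperfS : Group.IsPerfect Spor.HS :=
    isPerfect_of_simple (by rw [Lib.Leech.card_HS]; norm_num)
  have hperfK := isPerfect_of_nonsplit hperfS hKc
  have : Group.IsPerfect K := hperfK
  have hKeq := commutator_eq_of_index_two hKi hperfK
  let e : K ≃* (⁅H, H⁆ : Subgroup Spor.HN) :=
    (K.equivMapOfInjective H.subtype H.subtype_injective).trans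
      (MulEquiv.subgroupCongr (by rw [← hKeq, map_subtype_commutator]))
  have hperf : Group.IsPerfect (⁅H, H⁆ : Subgroup Spor.HN) :=
    Group.IsPerfect.ofSurjective (f := e.toMonoidHom) e.surjective
  obtain ⟨hx, hy, hdec⟩ := mem_bracket hrel hH
  refine Cfsg.Agent.Lib.Schur.hasCyclicSchurMultiplier_one_of fun Γ _ τ hτ hc => ?_
  obtain ⟨X₀, hX₀⟩ := hτ x
  obtain ⟨Y₀, hY₀⟩ := hτ y
  obtain ⟨W₀, hW₀⟩ := hτ z
  set L := closure ({X₀, Y₀, W₀} : Set Γ) with hLdef
  have hL : L.map τ = H := by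
    rw [← hH, hLdef, MonoidHom.map_closure, Set.image_insert_eq, Set.image_insert_eq,
      Set.image_singleton, hX₀, hY₀, hW₀]
  have hWL : W₀ ∈ L := subset_closure (by simp)
  have hD := ker_inf_bracket_eq_bot τ hc hL hWL (by rw [hW₀]; exact hdec) hperf
    (isNonsplitDoubleCover_congr e hKc) Cfsg.Agent.S2046.result
  obtain ⟨X, hX, hτX⟩ : x ∈ (⁅L, L⁆).map τ := by rw [map_bracket_eq τ hL]; exact hx
  obtain ⟨Y, hY, hτY⟩ : y ∈ (⁅L, L⁆).map τ := by rw [map_bracket_eq τ hL]; exact hy
  have hnorm : ∀ d, d ∈ ⁅L, L⁆ ↔ W₀ * d * W₀⁻¹ ∈ ⁅L, L⁆ :=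
    mem_normalizer_iff.mp (Subgroup.normalizer_commutator_ge_left (H₁ := L) (H₂ := L) hWL)
  obtain ⟨W, T, hτW, hτT, hR, hT5, hTX, hTY, hWT⟩ :=
    exists_relator_lifts τ hτ hc hrel ht5 htx hty hzt
      (fun d hd hd1 => mem_bot.mp (hD ▸ (⟨hd1, hd⟩ : d ∈ τ.ker ⊓ ⁅L, L⁆)))
      hX hY hτX hτY hW₀ hnorm
  let img : Spor.HN.Gen → Γ
    | .x => X
    | .y => Y
    | .z => W
    | .t => T
  have hrels : ∀ r ∈ hnRels, FreeGroup.lift img r = 1 := by
    rintro r (⟨a, ha, -⟩ | hr)
    · simp [Spor.coxNodes, Spor.HN.edges] at ha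
    · revert r
      simp only [Spor.HN.extra, Set.mem_setOf_eq, List.forall_mem_cons, List.not_mem_nil,
        IsEmpty.forall_iff, implies_true, and_true, map_mul, map_inv, map_pow,
        FreeGroup.lift_apply_of]
      exact ⟨hR.r1, hR.r2, hR.r3, hR.r4, hR.r5, hR.r6, hR.r7, hR.r8, hR.r9, hR.r10,
        hT5, hTX, hTY, hWT⟩
  set s := PresentedGroup.toGroup hrels with hs
  have hsec : τ.comp s = MonoidHom.id _ := by
    refine PresentedGroup.ext fun g => ?_
    rw [MonoidHom.comp_apply, hs, PresentedGroup.toGroup.of]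
    cases g <;> simp [img, hτX, hτY, hτW, hτT, x, y, gen]
  have hsτ : ∀ g, τ (s g) = g := fun g => DFunLike.congr_fun hsec g
  rw [eq_bot_iff]
  rintro a ⟨ha, haC⟩
  have hcomm : commutator Γ ≤ s.range := by
    rw [_root_.commutator_def, Subgroup.commutator_le]
    intro p _ q _
    refine ⟨⁅τ p, τ q⁆, ?_⟩
    have hp : (s (τ p))⁻¹ * p ∈ center Γ := hc (by simp [MonoidHom.mem_ker, hsτ])
    have hq : (s (τ q))⁻¹ * q ∈ center Γ := hc (by simp [MonoidHom.mem_ker, hsτ])
    rw [map_commutatorElement]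
    have key : ∀ u v c d : Γ, c ∈ center Γ → d ∈ center Γ → ⁅u * c, v * d⁆ = ⁅u, v⁆ := by
      intro u v c d hc hd
      have e1 : ∀ w, c * w = w * c := fun w => (mem_center_iff.mp hc w).symm
      have e2 : ∀ w, d * w = w * d := fun w => (mem_center_iff.mp hd w).symm
      calc ⁅u * c, v * d⁆ = u * (c * v) * (d * c⁻¹) * u⁻¹ * d⁻¹ * v⁻¹ := by
            rw [commutatorElement_def]; group
        _ = u * v * (c * d * c⁻¹ * u⁻¹) * d⁻¹ * v⁻¹ := by rw [e1]; group
        _ = u * v * (u⁻¹ * d) * d⁻¹ * v⁻¹ := by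
            rw [e1 d, mul_assoc d c, mul_inv_cancel, mul_one, e2 u⁻¹]
        _ = ⁅u, v⁆ := by rw [commutatorElement_def]; group
    have := key (s (τ p)) (s (τ q)) _ _ hp hq
    simpa [mul_inv_cancel_left] using this.symm
  obtain ⟨g, rfl⟩ := hcomm haC
  have : g = 1 := by rw [← hsτ g]; exact ha
  rw [this, map_one]
  exact one_mem _

end Cfsg.Agent.Lib.HNSchur64
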